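import Cfsg.Agent.Lib.Coxeter.Certs

/-!
Centres of the finite Weyl groups and small generating sets, from the faithful representation on
weight coordinates.
-/

set_option autoImplicit false

namespace Cfsg.Agent.Lib.WeylSmall

open Cfsg.Agent.Lib.Coxeter WeylOrder

variable {n : ℕ} {M : CoxeterMatrix (Fin n)} {C : List (List ℤ)} {Ls : List Level}

/-- The words `w` and `w'` act equally on weight coordinates. -/
def wordsEq (n : ℕ) (C : List (List ℤ)) (w w' : List ℕ) : Bool :=
  (w ++ w').all (fun j => decide (j < n)) &&
    (List.range n).all (fun k => decide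
      ((w ++ w'.reverse).foldr (actL n C) (unitL n k) = unitL n k))

theorem coxeterElement_eq : ((List.finRange n).map M.simple).prod = genProd M (List.range n) := by
  rw [genProd, ← List.map_coe_finRange_eq_range, List.map_map]
  congr 1
  exact List.map_congr_left fun i _ => by simp [gen]

theorem genProd_append (w w' : List ℕ) : genProd M (w ++ w') = genProd M w * genProd M w' := by
  simp [genProd]

theorem eq_of_wordsEq (hc : checkAll M C Ls = true) {w w' : List ℕ}
    (h : wordsEq n C w w' = true) : genProd M w = genProd M w' := by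
  simp only [wordsEq, Bool.and_eq_true, List.all_eq_true, List.mem_append, decide_eq_true_eq,
    List.mem_range] at h
  have h1 := (eq_one_iff Ls hc (w ++ w'.reverse) (fun j hj => h.1 j (by simpa using hj))).2 h.2
  rw [genProd_append, genProd_reverse] at h1
  exact mul_inv_eq_one.mp h1

theorem ne_of_wordsEq (hc : checkAll M C Ls = true) {w w' : List ℕ}
    (hw : (w ++ w').all (fun j => decide (j < n)) = true)
    (h : wordsEq n C w w' = false) : genProd M w ≠ genProd M w' := by
  intro e
  simp only [List.all_eq_true, List.mem_append, decide_eq_true_eq] at hw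
  have h1 : genProd M (w ++ w'.reverse) = 1 := by
    rw [genProd_append, genProd_reverse, e, mul_inv_cancel]
  have h2 := (eq_one_iff Ls hc _ (fun j hj => hw j (by simpa using hj))).1 h1
  have : wordsEq n C w w' = true := by
    simp only [wordsEq, Bool.and_eq_true, List.all_eq_true, List.mem_append, decide_eq_true_eq,
      List.mem_range]
    exact ⟨hw, h2⟩
  simp [h] at this

theorem rep_injective (hc : checkAll M C Ls = true) (hr : checkRep M C = true) :
    Function.Injective (rep hr : M.Group → Module.End ℤ (Fin n → ℤ)) := by
  intro x y hxy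
  have hch : checkChain M C Ls (List.range n) = true := by
    simp only [checkAll, Bool.and_eq_true] at hc
    exact hc.2
  refine mul_inv_eq_one.mp ((chain_spec hr Ls _ hch).2 (x * y⁻¹) (by rw [sub_range]; trivial) ?_)
  rw [map_mul, hxy, ← map_mul, mul_inv_cancel, map_one]

/-- The diagonal entries of the Cartan matrix are two and the diagram is connected along `ord`. -/
def checkConn (n : ℕ) (C : List (List ℤ)) (ord : List ℕ) : Bool :=
  decide (∀ i < n, cGet C i i = 2) && decide (∀ k < n, k ∈ ord) && decide (0 < n) &&
    (List.range ord.length).all (fun m => decide (m = 0) ||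
      (List.range m).any (fun m' => decide (ord.getD m' 0 < n ∧ cGet C (ord.getD m' 0) (ord.getD m 0) ≠ 0)))

/-- A central element acts as a scalar. -/
theorem rep_central (hr : checkRep M C = true) {ord : List ℕ} (ho : checkConn n C ord = true)
    {z : M.Group} (hz : z ∈ Subgroup.center M.Group) :
    ∃ a : ℤ, (a = 1 ∨ a = -1) ∧ ∀ v : Fin n → ℤ, rep hr z v = a • v := by
  simp only [checkConn, Bool.and_eq_true, decide_eq_true_eq, List.all_eq_true, List.mem_range,
    Bool.or_eq_true, List.any_eq_true] at ho
  obtain ⟨⟨⟨hdiag, hall⟩, hn⟩, hord⟩ := ho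
  let Z := rep hr z
  let row : ℕ → Fin n → ℤ := fun i k => cGet C i k
  have hcomm : ∀ (i : Fin n) (v : Fin n → ℤ), Z v i • row i = v i • Z (row i) := by
    intro i v
    have h1 := congrArg (fun T : Module.End ℤ (Fin n → ℤ) => T v)
      (congrArg (rep hr) (Subgroup.mem_center_iff.mp hz (gen M i)))
    simp only [map_mul, Module.End.mul_apply, rep_gen hr i.2] at h1
    have h2 : ∀ u : Fin n → ℤ, reflect (n := n) C i u = u - u i • row i := by
      intro u; funext k; simp [reflect, row]
    rw [h2, h2, map_sub, map_smul] at h1
    exact (sub_right_inj.mp h1)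
  let a : Fin n → ℤ := fun i => Z (Pi.single i 1) i
  have hrow : ∀ i : Fin n, Z (row i) = a i • row i := by
    intro i
    have := hcomm i (Pi.single i 1)
    rw [Pi.single_eq_same, one_smul] at this
    exact this.symm
  have hdiagv : ∀ (i : Fin n) (v : Fin n → ℤ), Z v i = v i * a i := by
    intro i v
    have h1 := congrFun (hcomm i v) i
    rw [hrow] at h1
    simp only [Pi.smul_apply, smul_eq_mul, row, hdiag i i.2] at h1
    linarith [h1]
  have hedge : ∀ (i k : Fin n), cGet C i k ≠ 0 → a k = a i := by
    intro i k hik
    have h1 := congrFun (hrow i) k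
    rw [hdiagv, Pi.smul_apply, smul_eq_mul, mul_comm (a i)] at h1
    exact mul_left_cancel₀ hik h1
  have hconst : ∀ (m : ℕ) (hm : m < ord.length) (hk : ord.getD m 0 < n),
      ∀ (h0 : ord.getD 0 0 < n), a ⟨ord.getD m 0, hk⟩ = a ⟨ord.getD 0 0, h0⟩ := by
    intro m
    induction m using Nat.strong_induction_on with
    | _ m ih =>
      intro hm hk h0
      rcases Nat.eq_zero_or_pos m with rfl | hpos
      · rfl
      · obtain ⟨m', hm', hk', hne⟩ := (hord m hm).resolve_left (by omega)
        rw [← ih m' hm' (by omega) hk' h0]
        exact hedge ⟨_, hk'⟩ ⟨_, hk⟩ hne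
  have hsame : ∀ i : Fin n, a i = a ⟨0, hn⟩ := by
    have key : ∀ i : Fin n, ∃ (m : ℕ) (_ : m < ord.length) (hk : ord.getD m 0 < n), i = ⟨ord.getD m 0, hk⟩ := by
      intro i
      obtain ⟨m, hm, hmi⟩ := List.mem_iff_getElem.mp (hall i.1 i.2)
      have h0 : ord.getD m 0 = i.1 := by rw [List.getD_eq_getElem?_getD, List.getElem?_eq_getElem hm]; simpa using hmi
      exact ⟨m, hm, by omega, Fin.ext h0.symm⟩
    intro i
    obtain ⟨m, hm, hk, rfl⟩ := key i
    obtain ⟨m0, hm0, hk0, e0⟩ := key ⟨0, hn⟩
    have hk00 : ord.getD 0 0 < n := by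
      have hl : 0 < ord.length := by omega
      have := key
      by_cases h1 : 1 < ord.length
      · obtain ⟨x, hx, hx', -⟩ := (hord 1 h1).resolve_left (by omega)
        have : x = 0 := by omega
        exact this ▸ hx'
      · have : m0 = 0 := by omega
        exact this ▸ hk0
    rw [e0, hconst m hm hk hk00, hconst m0 hm0 hk0 hk00]
  refine ⟨a ⟨0, hn⟩, ?_, fun v => funext fun i => by
    change Z v i = _
    rw [hdiagv, hsame, mul_comm]; rfl⟩
  have h1 := congrArg (fun T : Module.End ℤ (Fin n → ℤ) => T (Pi.single ⟨0, hn⟩ 1) ⟨0, hn⟩)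
    (show rep hr z⁻¹ * rep hr z = 1 by rw [← map_mul, inv_mul_cancel, map_one])
  simp only [Module.End.mul_apply, Module.End.one_apply] at h1
  rw [show rep hr z (Pi.single ⟨0, hn⟩ 1) = a ⟨0, hn⟩ • Pi.single ⟨0, hn⟩ 1 from funext fun i => by
      change Z _ i = _
      rw [hdiagv, hsame, mul_comm]; rfl, map_smul] at h1
  simp only [Pi.smul_apply, smul_eq_mul, Pi.single_eq_same] at h1
  exact Int.isUnit_iff.mp (IsUnit.of_mul_eq_one _ h1)

/-- The word `w` negates every fundamental weight. -/
def negWord (n : ℕ) (C : List (List ℤ)) (w : List ℕ) : Bool :=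
  w.all (fun j => decide (j < n)) && decide (0 < n) &&
    (List.range n).all (fun k => decide (w.foldr (actL n C) (unitL n k) = (unitL n k).map (fun x => -x)))

theorem rep_negWord (hr : checkRep M C = true) {w : List ℕ} (h : negWord n C w = true) :
    ∀ v : Fin n → ℤ, rep hr (genProd M w) v = (-1 : ℤ) • v := by
  simp only [negWord, Bool.and_eq_true, List.all_eq_true, decide_eq_true_eq, List.mem_range] at h
  have h1 : (rep hr (genProd M w)) = (-1 : ℤ) • (1 : Module.End ℤ (Fin n → ℤ)) := by
    refine LinearMap.pi_ext' fun k => LinearMap.ext_ring ?_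
    simp only [LinearMap.coe_comp, LinearMap.coe_single, Function.comp_apply, LinearMap.smul_apply,
      Module.End.one_apply]
    apply List.ofFn_injective
    rw [ofFn_rep_genProd hr h.1.1, ofFn_single _ k.2, h.2 k k.2, ← ofFn_single _ k.2, List.map_ofFn]
    congr 1
    funext x
    simp
  intro v
  simp [h1]

/-- The centre is generated by a word acting as minus the identity. -/
theorem center_of_negWord (hc : checkAll M C Ls = true) {ord : List ℕ}
    (ho : checkConn n C ord = true) {k : ℕ}
    (hw : negWord n C (List.replicate k (List.range n)).flatten = true) :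
    Nat.card (Subgroup.center M.Group) = 2 ∧
      Subgroup.center M.Group ≤ Subgroup.zpowers ((List.finRange n).map M.simple).prod := by
  have hr : checkRep M C = true := by
    simp only [checkAll, Bool.and_eq_true] at hc
    exact hc.1
  set e := genProd M (List.replicate k (List.range n)).flatten with he
  have hpow : e = (((List.finRange n).map M.simple).prod) ^ k := by
    rw [coxeterElement_eq, he]
    clear he hw
    clear_value e
    induction k with
    | zero => simp [genProd]
    | succ k ih => rw [List.replicate_succ, List.flatten_cons, genProd_append, ih, pow_succ']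
  have hneg := rep_negWord hr hw
  have hinj := rep_injective hc hr
  have hn : 0 < n := by
    simp only [negWord, Bool.and_eq_true, decide_eq_true_eq] at hw
    exact hw.1.2
  have hne : e ≠ 1 := by
    intro h1
    have := congrFun (hneg (Pi.single ⟨0, hn⟩ 1)) ⟨0, hn⟩
    rw [← he, h1, map_one] at this
    simp at this
  have hmem : e ∈ Subgroup.center M.Group := by
    refine Subgroup.mem_center_iff.mpr fun g => hinj ?_
    refine LinearMap.ext fun v => ?_
    simp [map_mul, hneg, he, map_smul]
  have hset : (Subgroup.center M.Group : Set M.Group) = {1, e} := by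
    ext z
    constructor
    · intro hz
      obtain ⟨a, ha | ha, hzv⟩ := rep_central hr ho hz
      · refine Or.inl (hinj (LinearMap.ext fun v => ?_))
        simp [hzv, ha]
      · refine Or.inr (hinj (LinearMap.ext fun v => ?_))
        rw [hzv, he, hneg, ha]
    · rintro (rfl | rfl)
      · exact one_mem _
      · exact hmem
  refine ⟨?_, fun z hz => ?_⟩
  · rw [← SetLike.coe_sort_coe, hset, Nat.card_coe_set_eq, Set.ncard_pair hne.symm]
  · have hz' : z ∈ ({1, e} : Set M.Group) := hset ▸ hz
    rcases hz' with rfl | rfl
    · exact one_mem _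
    · rw [hpow]; exact Subgroup.npow_mem_zpowers _ _

/-- The centre is trivial when the orbit of a fundamental weight omits its negative. -/
theorem center_eq_bot {L : Level} {Ls' : List Level} (hc : checkAll M C (L :: Ls') = true)
    {ord : List ℕ} (ho : checkConn n C ord = true)
    (hneg : ((List.range L.words.length).all fun c => decide
      ((L.word c).foldr (actL n C) (unitL n L.p) ≠ (unitL n L.p).map (fun x => -x))) = true) :
    Subgroup.center M.Group = ⊥ := by
  have hr : checkRep M C = true := by
    simp only [checkAll, Bool.and_eq_true] at hc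
    exact hc.1
  have hinj := rep_injective hc hr
  have hch : checkChain M C (L :: Ls') (List.range n) = true := by
    simp only [checkAll, Bool.and_eq_true] at hc
    exact hc.2
  simp only [checkChain, Bool.and_eq_true, decide_eq_true_eq] at hch
  obtain ⟨hJ, hL, -⟩ := hch
  have g := good_of_check hr L _ hL
  rw [Subgroup.eq_bot_iff_forall]
  intro z hz
  obtain ⟨a, ha, hzv⟩ := rep_central hr ho hz
  rcases ha with ha | ha
  · exact hinj (LinearMap.ext fun v => by simp [hzv, ha])
  · exfalso
    obtain ⟨c, hcl, y, hy, rfl⟩ := coset_exhaust hr g (x := z) (by rw [hJ, sub_range]; trivial)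
    have h1 := hzv (Pi.single ⟨L.p, g.hp⟩ 1)
    rw [map_mul, Module.End.mul_apply, g.fixed y hy, ha] at h1
    simp only [List.all_eq_true, List.mem_range, decide_eq_true_eq] at hneg
    apply hneg c hcl
    rw [← ofFn_single L.p g.hp, ← ofFn_rep_genProd hr (fun j hj => g.hJ j (g.wordJ c hcl j hj)), h1,
      List.map_ofFn]
    congr 1
    funext x
    simp

/-- A word in the Coxeter element and the generators in `T`. -/
def expand (n : ℕ) (T : List ℕ) (w : List ℤ) : List ℕ :=
  (w.map fun x =>
    if x = -1 then List.range n
    else if x = -2 then (List.range n).reverse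
    else if x.toNat ∈ T then [x.toNat] else []).flatten

/-- Generation by the Coxeter element and the reflections in `T`. -/
theorem closure_eq_top (hc : checkAll M C Ls = true) (T : List ℕ) (ws : List (List ℤ))
    (hT : ∀ j ∈ T, j < n)
    (h : ((List.range n).all fun j => wordsEq n C [j] (expand n T (ws.getD j []))) = true)
    (S : Set M.Group) (hS : ∀ j (hj : j ∈ T), M.simple ⟨j, hT j hj⟩ ∈ S)
    (hcS : ((List.finRange n).map M.simple).prod ∈ S) : Subgroup.closure S = ⊤ := by
  simp only [List.all_eq_true, List.mem_range] at h
  have hexp : ∀ w : List ℤ, genProd M (expand n T w) ∈ Subgroup.closure S := by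
    intro w
    induction w with
    | nil => simp [expand, genProd]
    | cons x w ih =>
      simp only [expand, List.map_cons, List.flatten_cons, genProd_append]
      refine mul_mem ?_ ih
      split_ifs with h1 h2 h3
      · rw [← coxeterElement_eq]; exact Subgroup.subset_closure hcS
      · rw [genProd_reverse, ← coxeterElement_eq]; exact inv_mem (Subgroup.subset_closure hcS)
      · have := hS _ h3
        simpa [genProd, gen, hT _ h3] using Subgroup.subset_closure this
      · simp [genProd]
  rw [eq_top_iff, ← sub_range, sub, Subgroup.closure_le]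
  rintro _ ⟨j, hj, rfl⟩
  have h1 := eq_of_wordsEq hc (h j (List.mem_range.mp hj))
  rw [show genProd M [j] = gen M j by simp [genProd]] at h1
  rw [h1]
  exact hexp _

end Cfsg.Agent.Lib.WeylSmall
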